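import Mathlib
import Cfsg.Prelude.Def_Characters
import Cfsg.Agent.H697.Alm.Defs
import Cfsg.Agent.S0012
import Cfsg.Agent.S0014

/-!
# S4790, T20: the step from `G ⧸ N` to `G`
-/

set_option autoImplicit false
open Cfsg Cfsg.Agent.H697.Alm
open scoped commutatorElement

namespace Cfsg.Agent.H705.S4790

universe u

/-- a finite `p`-group that is not cyclic has Frattini quotient of order at least `p ^ 2` -/
theorem sq_le_index_frattini {P : Type*} [Group P] [Finite P] {p : ℕ} [hp : Fact p.Prime] (hP : IsPGroup p P)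
    (hc : ¬ IsCyclic P) : p ^ 2 ≤ (frattini P).index := by
  classical
  have := Fintype.ofFinite P
  obtain ⟨j, hj⟩ := IsPGroup.iff_card.1 (hP.to_quotient (frattini P))
  change (frattini P).index = p ^ j at hj
  by_cases h2 : 2 ≤ j
  · rw [hj]
    exact Nat.pow_le_pow_right hp.out.pos h2
  · exfalso
    apply hc
    obtain ⟨T, -, hT, hT'⟩ := (S0014.result p j hP hj).1 Finset.univ (by simp)
    have h3 : T.card ≤ 1 := by omega
    rw [Finset.card_le_one_iff_subset_singleton] at h3
    obtain ⟨z, hz⟩ := h3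
    refine ⟨z, fun x => ?_⟩
    have h4 : x ∈ Subgroup.closure (T : Set P) := hT' ▸ Subgroup.mem_top x
    have h5 : Subgroup.closure (T : Set P) ≤ Subgroup.zpowers z := by
      rw [Subgroup.closure_le]
      intro y hy
      have := Finset.mem_singleton.1 (hz hy)
      rw [this]
      exact Subgroup.mem_zpowers z
    exact h5 h4

section step

variable {G : Type u} [Group G] [Finite G]

/-- many classes of elements of order `p` in a normal elementary abelian subgroup -/
theorem card_le_kap_mul {p s : ℕ} (hp : p.Prime) (V C : Subgroup G)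
    (hVc : ∀ x ∈ V, ∀ y ∈ V, x * y = y * x) (hVp : ∀ x ∈ V, x ^ p = 1)
    (hCV : ∀ g : G, ∃ c ∈ C, ∃ v ∈ V, g = c * v) (hC : Nat.card C ≤ s) :
    Nat.card V ≤ s * kap p G := by
  classical
  have := Fintype.ofFinite G
  have := Fintype.ofFinite {c : ConjClasses G // ∃ g : G, ConjClasses.mk g = c ∧ ¬ p ^ 2 ∣ orderOf g}
  have hord : ∀ x ∈ V, ¬ p ^ 2 ∣ orderOf x := by
    intro x hx hd
    have h1 : orderOf x ∣ p := orderOf_dvd_of_pow_eq_one (hVp x hx)
    have h2 := Nat.le_of_dvd hp.pos (hd.trans h1)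
    have := hp.two_le
    nlinarith
  let f : V → {c : ConjClasses G // ∃ g : G, ConjClasses.mk g = c ∧ ¬ p ^ 2 ∣ orderOf g} :=
    fun v => ⟨ConjClasses.mk (v : G), v, rfl, hord v v.2⟩
  have h1 : ∀ a ∈ (Finset.univ : Finset V).image f, ((Finset.univ : Finset V).filter (fun x => f x = a)).card ≤ s := by
    intro a ha
    obtain ⟨v, -, rfl⟩ := Finset.mem_image.1 ha
    have h2 : ∀ x ∈ (Finset.univ : Finset V).filter (fun x => f x = f v), (x : G) ∈
        (Finset.univ : Finset C).image (fun c : C => (c : G) * v * (c : G)⁻¹) := by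
      intro x hx
      have h3 : ConjClasses.mk (x : G) = ConjClasses.mk (v : G) := congrArg Subtype.val (Finset.mem_filter.1 hx).2
      obtain ⟨g, hg⟩ := isConj_iff.1 (ConjClasses.mk_eq_mk_iff_isConj.1 h3.symm)
      obtain ⟨c, hc, w, hw, rfl⟩ := hCV g
      refine Finset.mem_image.2 ⟨⟨c, hc⟩, Finset.mem_univ _, ?_⟩
      show c * v * c⁻¹ = x
      rw [← hg]
      calc c * (v : G) * c⁻¹ = c * (v * w) * w⁻¹ * c⁻¹ := by group
        _ = c * (w * v) * w⁻¹ * c⁻¹ := by rw [hVc _ v.2 w hw]
        _ = _ := by group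
    calc ((Finset.univ : Finset V).filter (fun x => f x = f v)).card
        = (((Finset.univ : Finset V).filter (fun x => f x = f v)).image (fun x : V => (x : G))).card :=
          (Finset.card_image_of_injective _ Subtype.val_injective).symm
      _ ≤ ((Finset.univ : Finset C).image (fun c : C => (c : G) * v * (c : G)⁻¹)).card := by
          refine Finset.card_le_card ?_
          intro y hy
          obtain ⟨x, hx, rfl⟩ := Finset.mem_image.1 hy
          exact h2 x hx
      _ ≤ (Finset.univ : Finset C).card := Finset.card_image_le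
      _ ≤ s := by rw [Finset.card_univ, ← Nat.card_eq_fintype_card]; exact hC
  have h2 := Finset.card_le_mul_card_image (s := (Finset.univ : Finset V)) s h1
  have h3 : ((Finset.univ : Finset V).image f).card ≤ kap p G := by
    unfold kap
    rw [Nat.card_eq_fintype_card]
    exact Finset.card_le_univ _
  rw [Finset.card_univ, ← Nat.card_eq_fintype_card] at h2
  calc Nat.card V ≤ s * ((Finset.univ : Finset V).image f).card := h2
    _ ≤ s * kap p G := Nat.mul_le_mul_left s h3

theorem card_quot_ge {p : ℕ} [hp : Fact p.Prime] (P : Subgroup G) (hP : IsPGroup p P) (hc : ¬ IsCyclic P)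
    (K : Subgroup G) [K.Normal] (hK : K = (frattini P).map P.subtype) :
    p ^ 2 ≤ Nat.card (P.map (QuotientGroup.mk' K)) := by
  rw [← Subgroup.relIndex_ker, QuotientGroup.ker_mk', Subgroup.relIndex, hK, Subgroup.subgroupOf,
    Subgroup.comap_map_eq_self_of_injective P.subtype_injective]
  exact sq_le_index_frattini hP hc

/-- The statement from T17 and T18a. -/
theorem ext_step_of {p : ℕ} [hp : Fact p.Prime] (h5 : 5 ≤ p)
    (hkq : ∀ (K : Subgroup G) [K.Normal], kap p (G ⧸ K) ≤ apr p G)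
    (N : Subgroup G) [N.Normal] (hN : IsPGroup p N)
    (hext : Ext p (G ⧸ N)) (hd : p ∣ Nat.card (G ⧸ N)) (hk : apr p G ^ 2 = 4 * (p - 1)) : Ext p G := by
  classical
  obtain ⟨s, e', N', C', hs, hN'n, hN'c, hN'card, hC'c, hC'card, hdisj, hGN, hfr⟩ := hext
  have hpp := hp.out
  have hs0 : 0 < s := hC'card ▸ Nat.card_pos
  have hps : ¬ p ∣ s := by
    intro hd
    have h1 : p ∣ p - 1 := by
      rw [← hs]
      exact hd.trans (dvd_pow_self s two_ne_zero)
    have h2 := Nat.le_of_dvd (by omega) h1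
    omega
  have hN'idx : N'.index = s := by
    have h2 := N'.card_mul_index
    rw [hN'card, hGN] at h2
    exact Nat.eq_of_mul_eq_mul_left (pow_pos hpp.pos e') h2
  set P : Subgroup G := N'.comap (QuotientGroup.mk' N) with hPdef
  have hPn : P.Normal := hN'n.comap _
  have hPp : IsPGroup p P := by
    refine IsPGroup.comap_of_ker_isPGroup (IsPGroup.of_card hN'card) (QuotientGroup.mk' N) ?_
    rw [QuotientGroup.ker_mk']
    exact hN
  have hPidx : P.index = s := by
    rw [hPdef, Subgroup.index_comap_of_surjective _ (QuotientGroup.mk'_surjective N), hN'idx]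
  obtain ⟨b, hb⟩ := IsPGroup.iff_card.1 hPp
  have hGcard : Nat.card G = p ^ b * s := by
    rw [← P.card_mul_index, hb, hPidx]
  have hcop : Nat.Coprime (Nat.card P) P.index := by
    rw [hb, hPidx]
    exact (Nat.Prime.coprime_pow_of_not_dvd (m := b) hpp hps).symm
  obtain ⟨C, hC⟩ := Subgroup.exists_right_complement'_of_coprime hcop
  have hCcard : Nat.card C = s := by
    have h1 := hC.card_mul_card
    rw [hb, hGcard] at h1
    exact Nat.eq_of_mul_eq_mul_left (pow_pos hpp.pos b) h1
  have hPC : P ⊓ C = ⊥ := disjoint_iff.1 hC.disjoint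
  have hcomp' : Subgroup.IsComplement' N' C' :=
    Subgroup.isComplement'_of_card_mul_and_disjoint (by rw [hN'card, hC'card, hGN]) (disjoint_iff.2 hdisj)
  have hCc : IsCyclic C := by
    have h1 : IsCyclic ((G ⧸ N) ⧸ N') := by
      refine isCyclic_of_surjective ((QuotientGroup.mk' N').comp C'.subtype) ?_
      intro q
      obtain ⟨q, rfl⟩ := QuotientGroup.mk'_surjective N' q
      obtain ⟨⟨⟨n, hn⟩, c⟩, hnc⟩ := hcomp'.surjective q
      have hnc' : n * (c : G ⧸ N) = q := hnc
      refine ⟨c, ?_⟩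
      show QuotientGroup.mk' N' (c : G ⧸ N) = _
      rw [← hnc', map_mul]
      have h2 : QuotientGroup.mk' N' n = 1 := (QuotientGroup.eq_one_iff n).2 hn
      rw [h2, one_mul]
    refine isCyclic_of_injective (((QuotientGroup.mk' N').comp (QuotientGroup.mk' N)).comp C.subtype) ?_
    rw [injective_iff_map_eq_one]
    rintro ⟨c, hc⟩ h2
    have h3 : QuotientGroup.mk' N c ∈ N' := (QuotientGroup.eq_one_iff (N := N') _).1 h2
    have h4 : c ∈ P ⊓ C := ⟨h3, hc⟩
    rw [hPC, Subgroup.mem_bot] at h4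
    exact Subtype.ext h4
  have hN'comm : ∀ x ∈ N', ∀ y ∈ N', x * y = y * x := by
    intro x hx y hy
    have := (IsCyclic.commGroup (α := N')).mul_comm (⟨x, hx⟩ : N') ⟨y, hy⟩
    exact congrArg Subtype.val this
  by_cases hPc : IsCyclic P
  · refine ⟨s, b, P, C, hs, hPn, hPc, hb, hCc, hCcard, hPC, hGcard, ?_⟩
    intro h hh h1 x hx hx1 hcom
    obtain ⟨⟨z, hzP⟩, hz⟩ := hPc.exists_generator
    have hgen : ∀ w ∈ P, ∃ i : ℕ, z ^ i = w := by
      intro w hw
      obtain ⟨i, hi⟩ := (mem_powers_iff_mem_zpowers).2 (hz ⟨w, hw⟩)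
      exact ⟨i, congrArg Subtype.val hi⟩
    have hoz : orderOf z = p ^ b := by
      rw [← hb]
      have := orderOf_eq_card_of_forall_mem_zpowers hz
      rw [← this]
      exact (Subgroup.orderOf_mk z hzP).symm
    obtain ⟨u, hu⟩ := hgen _ (hPn.conj_mem z hzP h)
    obtain ⟨i, rfl⟩ := hgen x hx
    have hconj : ∀ j : ℕ, h * z ^ j * h⁻¹ = z ^ (u * j) := by
      intro j
      rw [pow_mul, hu, conj_pow]
    rw [hconj i] at hcom
    have hu1 : u ≡ 1 [MOD p] := by
      by_contra hne
      have h2 : u * i ≡ i [MOD p ^ b] := hoz ▸ pow_eq_pow_iff_modEq.1 hcom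
      have h3 : ((p ^ b : ℕ) : ℤ) ∣ ((u : ℤ) - 1) * i := by
        have := (Nat.modEq_iff_dvd.1 h2.symm)
        push_cast at this ⊢
        convert this using 1
        ring
      have h4 : ¬ (p : ℤ) ∣ (u : ℤ) - 1 := by
        intro hdv
        apply hne
        refine (Nat.modEq_iff_dvd.2 ?_).symm
        exact_mod_cast hdv
      have h5 : IsCoprime ((p ^ b : ℕ) : ℤ) ((u : ℤ) - 1) := by
        push_cast
        exact (((Nat.prime_iff_prime_int.1 hpp).coprime_iff_not_dvd).2 h4).pow_left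
      have h6 : ((p ^ b : ℕ) : ℤ) ∣ (i : ℤ) := h5.dvd_of_dvd_mul_left h3
      have h7 : p ^ b ∣ i := by exact_mod_cast h6
      apply hx1
      rw [← hoz] at h7
      exact orderOf_dvd_iff_pow_eq_one.1 h7
    have hpN' : p ∣ Nat.card N' := by
      rw [hN'card]
      rw [hGN] at hd
      rcases (Nat.Prime.dvd_mul hpp).1 hd with h2 | h2
      · exact h2
      · exact absurd h2 hps
    obtain ⟨⟨y, hyN⟩, hy⟩ := exists_prime_orderOf_dvd_card' p hpN'
    have hyp : y ^ p = 1 := by
      have := pow_orderOf_eq_one (⟨y, hyN⟩ : N')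
      rw [hy] at this
      exact congrArg Subtype.val this
    have hy1 : y ≠ 1 := by
      rintro rfl
      have : orderOf (⟨1, hyN⟩ : N') = 1 := orderOf_one
      rw [hy] at this
      exact hpp.one_lt.ne' this
    obtain ⟨w, rfl⟩ := QuotientGroup.mk'_surjective N y
    obtain ⟨j, rfl⟩ := hgen w hyN
    have h2 : QuotientGroup.mk' N h * QuotientGroup.mk' N (z ^ j) * (QuotientGroup.mk' N h)⁻¹ = QuotientGroup.mk' N (z ^ j) := by
      rw [← map_mul, ← map_inv, ← map_mul, hconj j, mul_comm u j, pow_mul, map_pow]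
      have h3 : orderOf (QuotientGroup.mk' N (z ^ j)) ∣ p := orderOf_dvd_of_pow_eq_one hyp
      conv_rhs => rw [← pow_one (QuotientGroup.mk' N (z ^ j))]
      exact pow_eq_pow_iff_modEq.2 (hu1.of_dvd h3)
    obtain ⟨⟨⟨n, hn⟩, ⟨c, hc⟩⟩, hnc⟩ := hcomp'.surjective (QuotientGroup.mk' N h)
    have hnc' : n * c = QuotientGroup.mk' N h := hnc
    have hc1 : c ≠ 1 := by
      rintro rfl
      rw [mul_one] at hnc'
      have h4 : h ∈ P ⊓ C := ⟨by
        show QuotientGroup.mk' N h ∈ N'
        rw [← hnc']; exact hn, hh⟩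
      rw [hPC, Subgroup.mem_bot] at h4
      exact h1 h4
    refine hfr c hc hc1 _ hyN hy1 ?_
    have h5 : c * QuotientGroup.mk' N (z ^ j) * c⁻¹ ∈ N' := hN'n.conj_mem _ hyN c
    rw [← hnc'] at h2
    calc c * QuotientGroup.mk' N (z ^ j) * c⁻¹ = (c * QuotientGroup.mk' N (z ^ j) * c⁻¹) * n * n⁻¹ := by group
      _ = n * (c * QuotientGroup.mk' N (z ^ j) * c⁻¹) * n⁻¹ := by rw [hN'comm _ h5 n hn]
      _ = n * c * QuotientGroup.mk' N (z ^ j) * (n * c)⁻¹ := by group
      _ = _ := h2
  · exfalso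
    have hKn : ((frattini P).map P.subtype).Normal := inferInstance
    obtain ⟨K, hK⟩ : ∃ K : Subgroup G, K = (frattini P).map P.subtype := ⟨_, rfl⟩
    rw [← hK] at hKn
    have hmem : ∀ x : P, x ∈ frattini P → (x : G) ∈ K := fun x hx => hK ▸ Subgroup.mem_map_of_mem P.subtype hx
    have h12 := S0012.result p hPp
    have hV2 := card_quot_ge P hPp hPc K hK
    have h3 := card_le_kap_mul (s := s) hpp (P.map (QuotientGroup.mk' K)) (C.map (QuotientGroup.mk' K))
      (by
        rintro _ ⟨a, ha, rfl⟩ _ ⟨c, hc, rfl⟩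
        rw [← map_mul, ← map_mul]
        refine QuotientGroup.eq.2 ?_
        have h4 : (⁅(⟨c, hc⟩ : P)⁻¹, (⟨a, ha⟩ : P)⁻¹⁆ : P) ∈ frattini P :=
          h12.1 (Subgroup.commutator_mem_commutator (Subgroup.mem_top _) (Subgroup.mem_top _))
        have h5 := hmem _ h4
        have h6 : (a * c)⁻¹ * (c * a) = ((⁅(⟨c, hc⟩ : P)⁻¹, (⟨a, ha⟩ : P)⁻¹⁆ : P) : G) := by
          simp only [commutatorElement_def, Subgroup.coe_mul, Subgroup.coe_inv]
          group
        rw [h6]
        exact h5) (by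
        rintro _ ⟨a, ha, rfl⟩
        rw [← map_pow]
        exact (QuotientGroup.eq_one_iff _).2 (hmem (⟨a, ha⟩ ^ p) (h12.2 ⟨a, ha⟩))) (by
        intro g
        obtain ⟨g, rfl⟩ := QuotientGroup.mk'_surjective K g
        obtain ⟨⟨⟨c, hc⟩, ⟨n, hn⟩⟩, hcn⟩ := hC.symm.surjective g
        have hcn' : c * n = g := hcn
        exact ⟨_, Subgroup.mem_map_of_mem _ hc, _, Subgroup.mem_map_of_mem _ hn, by rw [← hcn', map_mul]⟩) (by
        rw [← hCcard]
        exact Nat.card_le_card_of_surjective ((QuotientGroup.mk' K).subgroupMap C)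
          ((QuotientGroup.mk' K).subgroupMap_surjective C))
    have h4 := hkq K
    have h6 : apr p G = 2 * s := by
      have h7 : apr p G ^ 2 = (2 * s) ^ 2 := by rw [hk, ← hs]; ring
      exact Nat.pow_left_injective (by norm_num : 2 ≠ 0) h7
    rw [h6] at h4
    have h7 : p ^ 2 ≤ s * (2 * s) := hV2.trans (h3.trans (Nat.mul_le_mul_left s h4))
    have h8 : s * (2 * s) = 2 * s ^ 2 := by ring
    rw [h8, hs] at h7
    nlinarith [Nat.sub_le p 1]

end step

end Cfsg.Agent.H705.S4790
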