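import Mathlib
import Cfsg.Prelude.Def_Characters
import Cfsg.Agent.H697.Alm.Defs
import Cfsg.Agent.Characters.Permutation
import Cfsg.Agent.Characters.GaloisIrr
import Cfsg.Agent.H700.PRat

/-!
# S4790, T25: the extremal groups have at most `2 s` almost `p`-rational characters
-/

set_option autoImplicit false
open Cfsg Cfsg.Agent.H697.Alm

namespace Cfsg.Agent.H705.S4790

open Cfsg.Agent.Characters

universe u

section gen

variable {G : Type u} [Group G] [Finite G]

theorem pow_congr_card {g : G} {a b : ℕ} (h : a ≡ b [MOD Nat.card G]) : g ^ a = g ^ b :=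
  pow_eq_pow_iff_modEq.2 (h.of_dvd (orderOf_dvd_natCard g))

theorem exists_inv_pow {k : ℕ} (h : k.Coprime (Nat.card G)) : ∃ l : ℕ, ∀ g : G, (g ^ k) ^ l = g := by
  refine ⟨k ^ ((Nat.card G).totient - 1), fun g => ?_⟩
  have h1 : 0 < (Nat.card G).totient := Nat.totient_pos.2 Nat.card_pos
  rw [← pow_mul, ← pow_succ', Nat.sub_add_cancel h1, pow_congr_card (Nat.ModEq.pow_totient h), pow_one]

theorem isConj_pow_iff {k : ℕ} (h : k.Coprime (Nat.card G)) (a b : G) : IsConj (a ^ k) (b ^ k) ↔ IsConj a b := by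
  obtain ⟨l, hl⟩ := exists_inv_pow (G := G) h
  constructor
  · intro hab
    obtain ⟨c, hc⟩ := isConj_iff.1 hab
    refine isConj_iff.2 ⟨c, ?_⟩
    rw [← hl a, ← hl b, ← hc]
    simp
  · intro hab
    obtain ⟨c, hc⟩ := isConj_iff.1 hab
    exact isConj_iff.2 ⟨c, by rw [← hc]; simp⟩

/-- the power map on classes -/
noncomputable def powCls {k : ℕ} (h : k.Coprime (Nat.card G)) : Equiv.Perm (ConjClasses G) :=
  Quotient.congr (powCoprime h.symm) (fun a b => (isConj_pow_iff h a b).symm)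

theorem powCls_mk {k : ℕ} (h : k.Coprime (Nat.card G)) (g : G) :
    powCls h (ConjClasses.mk g) = ConjClasses.mk (g ^ k) := rfl

/-- the number of irreducible characters invariant under the power map -/
theorem card_inv {k : ℕ} (h : k.Coprime (Nat.card G)) :
    Nat.card {χ : IrrCharacter G // ∀ g : G, (χ : G → ℂ) (g ^ k) = (χ : G → ℂ) g} =
      Nat.card {C : ConjClasses G // powCls h C = C} := by
  let σ : IrrCharacter G → IrrCharacter G := fun χ => ⟨fun g => (χ : G → ℂ) (g ^ k), GaloisIrr.isIrr_pow h χ.2⟩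
  have h1 := Permutation.card_fixed_eq (G := G) σ (powCls h)⁻¹ (by
    intro χ g g' hg
    have h2 : ConjClasses.mk (g' ^ k) = ConjClasses.mk g := by
      rw [← powCls_mk h, hg]
      exact Equiv.apply_symm_apply _ _
    obtain ⟨c, hc⟩ := isConj_iff.1 (ConjClasses.mk_eq_mk_iff_isConj.1 h2)
    show (χ : G → ℂ) (g' ^ k) = _
    rw [← hc]
    exact (Core.isIrr_isClassFunction χ.2 _ _).symm)
  have h2 : Nat.card {C : ConjClasses G // (powCls h)⁻¹ C = C} = Nat.card {C : ConjClasses G // powCls h C = C} := by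
    refine Nat.card_congr (Equiv.subtypeEquivRight fun C => ?_)
    constructor
    · intro hC
      have := congrArg (powCls h) hC
      rw [Equiv.Perm.inv_def, Equiv.apply_symm_apply] at this
      exact this.symm
    · intro hC
      rw [Equiv.Perm.inv_eq_iff_eq]
      exact hC.symm
  rw [← h2, ← h1]
  refine Nat.card_congr (Equiv.subtypeEquivRight fun χ => ?_)
  constructor
  · intro hχ
    exact Subtype.ext (funext hχ)
  · intro hχ g
    exact congrFun (congrArg Subtype.val hχ) g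

/-- almost `p`-rational characters are invariant under the maps `g ↦ g ^ k`, `k ≡ 1` modulo `p` and modulo the
`p'`-part of `|G|`. -/
theorem alm_pow {p : ℕ} (hp : p.Prime) {a m k : ℕ} (hG : Nat.card G = p ^ a * m) (hm : ¬ p ∣ m)
    (hk : k ≡ 1 [MOD p * m]) {χ : G → ℂ} (hχ : IsIrrCharacter G χ) (hal : AlmRat p χ) (g : G) :
    χ (g ^ k) = χ g := by
  obtain ⟨n, hn, hpn, hv⟩ := hal
  have hm0 : 0 < m := Nat.pos_of_ne_zero (by rintro rfl; simp at hm)
  -- gcd
  have hgcd : Nat.gcd n (Nat.card G) ∣ p * m := by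
    rw [hG]
    have hcop : Nat.Coprime (p ^ a) m := (Nat.Prime.coprime_pow_of_not_dvd (m := a) hp hm).symm
    rw [Nat.Coprime.gcd_mul _ hcop]
    refine mul_dvd_mul ?_ (Nat.gcd_dvd_right _ _)
    obtain ⟨i, hi, h1⟩ := (Nat.dvd_prime_pow hp).1 (Nat.gcd_dvd_right n (p ^ a))
    rw [h1]
    have h2 : p ^ i ∣ n := h1 ▸ Nat.gcd_dvd_left n (p ^ a)
    have h3 : i < 2 := by
      by_contra hc
      exact hpn ((pow_dvd_pow p (by omega)).trans h2)
    calc p ^ i ∣ p ^ 1 := pow_dvd_pow p (by omega)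
      _ = p := pow_one p
  obtain ⟨r, hr1, hr2⟩ := Nat.chineseRemainder' (n := n) (m := Nat.card G) (a := 1) (b := k)
    ((hk.of_dvd hgcd).symm)
  have hcr : r.Coprime (n * Nat.card G) := by
    refine Nat.Coprime.mul_right ?_ ?_
    · have := hr1.gcd_eq
      rw [Nat.gcd_one_left] at this
      exact this
    · have h1 : k.Coprime (p * m) := by
        have := hk.gcd_eq
        rw [Nat.gcd_one_left] at this
        exact this
      have h2 : k.Coprime (Nat.card G) := by
        rw [hG]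
        exact Nat.Coprime.mul_right (Nat.Coprime.pow_right a (Nat.Coprime.coprime_mul_right_right h1))
          (Nat.Coprime.coprime_mul_left_right h1)
      have := hr2.gcd_eq
      unfold Nat.Coprime
      rw [this]
      exact h2
  have hM0 : n * Nat.card G ≠ 0 := Nat.mul_ne_zero hn.ne' Nat.card_pos.ne'
  obtain ⟨σ, hσ⟩ := GaloisBasic.exists_ringEquiv_pow hM0 hcr
  have hz : (H700.PRat.zet n) ^ n = 1 := (H700.PRat.zet_prim hn.ne').pow_eq_one
  have h1 : σ (H700.PRat.zet n) = H700.PRat.zet n := by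
    rw [hσ _ (by rw [pow_mul, hz, one_pow]), H700.PRat.pow_congr hz hr1, pow_one]
  have h2 : σ (χ g) = χ g := H700.PRat.fix_adjoin σ h1 (hv g)
  have h3 : (σ : ℂ →+* ℂ) (χ g) = χ (g ^ r) :=
    GaloisBasic.map_apply (σ : ℂ →+* ℂ) (m := r) (n := n * Nat.card G) hσ (Core.isIrr_isCharacter hχ) hM0
      (by rw [mul_comm, pow_mul, pow_card_eq_one', one_pow])
  have h4 : g ^ r = g ^ k := pow_congr_card hr2
  rw [← h4, ← h3]
  exact h2

theorem coprime_of_modEq {p a m k : ℕ} (hG : Nat.card G = p ^ a * m) (hk : k ≡ 1 [MOD p * m]) :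
    k.Coprime (Nat.card G) := by
  have h1 : k.Coprime (p * m) := by
    have := hk.gcd_eq
    rw [Nat.gcd_one_left] at this
    exact this
  rw [hG]
  exact Nat.Coprime.mul_right (Nat.Coprime.pow_right a (Nat.Coprime.coprime_mul_right_right h1))
    (Nat.Coprime.coprime_mul_left_right h1)

/-- the number of almost rational characters is at most the number of classes invariant under `g ↦ g ^ k` -/
theorem apr_le_card_fixed {p : ℕ} (hp : p.Prime) {a m k : ℕ} (hG : Nat.card G = p ^ a * m) (hm : ¬ p ∣ m)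
    (hk : k ≡ 1 [MOD p * m]) :
    apr p G ≤ Nat.card {C : ConjClasses G // powCls (coprime_of_modEq hG hk) C = C} := by
  have := Core.finite_irr (G := G)
  rw [← card_inv]
  refine Nat.card_le_card_of_injective
    (fun χ : {χ : IrrCharacter G // AlmRat p (χ : G → ℂ)} =>
      (⟨χ.1, fun g => alm_pow hp hG hm hk χ.1.2 χ.2 g⟩ :
        {χ : IrrCharacter G // ∀ g : G, (χ : G → ℂ) (g ^ k) = (χ : G → ℂ) g})) ?_
  intro χ ψ h
  exact Subtype.ext (Subtype.mk.inj h)

end gen

/-- `(1 + p) ^ s ≡ 1 + s p` modulo `p ^ 2` -/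
theorem one_add_pow_modEq (p s : ℕ) : (1 + p) ^ s ≡ 1 + s * p [MOD p ^ 2] := by
  induction s with
  | zero => simp; rfl
  | succ s ih =>
    rw [pow_succ]
    refine (ih.mul_right (1 + p)).trans ?_
    have h1 : (1 + s * p) * (1 + p) = 1 + (s + 1) * p + p ^ 2 * s := by ring
    rw [h1]
    exact Nat.ModEq.symm (by simp [Nat.ModEq])

section main

variable {G : Type u} [Group G] [Finite G]

theorem apr_le_of_ext {p s e : ℕ} (hp : p.Prime) (N C : Subgroup G) (hs : s ^ 2 = p - 1) (hN : N.Normal)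
    (hNc : IsCyclic N) (hNe : Nat.card N = p ^ e) (hCc : IsCyclic C) (hCs : Nat.card C = s) (hNC : N ⊓ C = ⊥)
    (hG : Nat.card G = p ^ e * s) (hfr : ∀ h ∈ C, h ≠ 1 → ∀ x ∈ N, x ≠ 1 → h * x * h⁻¹ ≠ x) :
    apr p G ≤ 2 * s := by
  classical
  have := Fintype.ofFinite G
  have hs0 : 0 < s := hCs ▸ Nat.card_pos
  have hp2 := hp.two_le
  have hps : ¬ p ∣ s := by
    intro hd
    have h1 : p ∣ p - 1 := by
      rw [← hs]
      exact hd.trans (dvd_pow_self s two_ne_zero)
    have h2 := Nat.le_of_dvd (by omega) h1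
    omega
  obtain ⟨k, hk1, hk2⟩ := Nat.chineseRemainder (n := s) (m := p ^ (e + 1))
    (Nat.Coprime.pow_right _ (((Nat.Prime.coprime_iff_not_dvd hp).2 hps).symm)) 1 (1 + p)
  have hkp : k ≡ 1 [MOD p] := by
    refine (hk2.of_dvd (dvd_pow_self p (Nat.succ_ne_zero e))).trans ?_
    simp [Nat.ModEq]
  have hkk : k ≡ 1 [MOD p * s] := (Nat.modEq_and_modEq_iff_modEq_mul ((Nat.Prime.coprime_iff_not_dvd hp).2 hps)).1
    ⟨hkp, hk1⟩
  refine (apr_le_card_fixed hp hG hps hkk).trans ?_
  -- commutativity of N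
  have hcomm : ∀ x ∈ N, ∀ y ∈ N, x * y = y * x := by
    intro x hx y hy
    have := (IsCyclic.commGroup (α := N)).mul_comm (⟨x, hx⟩ : N) ⟨y, hy⟩
    exact congrArg Subtype.val this
  -- elements of N conjugate to their k-th power
  have hNel : ∀ g ∈ N, IsConj g (g ^ k) → g ^ p = 1 := by
    intro g hg hconj
    obtain ⟨h, hh⟩ := isConj_iff.1 hconj
    have h1 : ∀ j : ℕ, h ^ j * g * (h ^ j)⁻¹ = g ^ (k ^ j) := by
      intro j
      induction j with
      | zero => simp
      | succ j ih =>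
        calc h ^ (j + 1) * g * (h ^ (j + 1))⁻¹ = h * (h ^ j * g * (h ^ j)⁻¹) * h⁻¹ := by
              rw [pow_succ' h j]; group
          _ = (h * g * h⁻¹) ^ (k ^ j) := by rw [ih, conj_pow]
          _ = g ^ (k ^ (j + 1)) := by rw [hh, ← pow_mul, pow_succ' k j]
    have hidx : N.index = s := by
      have h2 := N.card_mul_index
      rw [hNe, hG] at h2
      exact Nat.eq_of_mul_eq_mul_left (pow_pos hp.pos e) h2
    have h2 : h ^ s ∈ N := by
      rw [← hidx]
      exact N.pow_index_mem h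
    have h3 : g ^ (k ^ s) = g ^ 1 := by
      rw [← h1 s, hcomm _ h2 g hg]
      simp
    have h4 : k ^ s ≡ 1 [MOD orderOf g] := pow_eq_pow_iff_modEq.1 h3
    have h5 : orderOf g ∣ p ^ e := by
      rw [← hNe]
      exact Subgroup.orderOf_dvd_natCard N hg
    obtain ⟨f, hf, h6⟩ := (Nat.dvd_prime_pow hp).1 h5
    have h7 : f < 2 := by
      by_contra hc
      have h8 : p ^ 2 ∣ orderOf g := h6 ▸ pow_dvd_pow p (by omega)
      have h9 : k ≡ 1 + p [MOD p ^ 2] := hk2.of_dvd (pow_dvd_pow p (by omega))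
      have h10 : 1 + s * p ≡ 1 [MOD p ^ 2] :=
        (one_add_pow_modEq p s).symm.trans ((h9.pow s).symm.trans (h4.of_dvd h8))
      have h11 : p ^ 2 ∣ s * p := by
        have := (Nat.modEq_iff_dvd' (by omega : 1 ≤ 1 + s * p)).1 h10.symm
        simpa using this
      rw [pow_two] at h11
      exact hps (Nat.dvd_of_mul_dvd_mul_right hp.pos h11)
    rw [← orderOf_dvd_iff_pow_eq_one, h6]
    calc p ^ f ∣ p ^ 1 := pow_dvd_pow p (by omega)
      _ = p := pow_one p
  -- elements outside N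
  have hcompl : Subgroup.IsComplement' N C :=
    Subgroup.isComplement'_of_card_mul_and_disjoint (by rw [hNe, hCs, hG]) (disjoint_iff.2 hNC)
  have hout : ∀ g : G, g ∉ N → ∃ c ∈ C, IsConj c g := by
    intro g hg
    obtain ⟨⟨⟨n, hn⟩, ⟨c, hc⟩⟩, hnc⟩ := hcompl.surjective g
    have hnc' : n * c = g := hnc
    have hc1 : c ≠ 1 := by
      rintro rfl
      rw [mul_one] at hnc'
      exact hg (hnc' ▸ hn)
    -- the map m ↦ m * (c m⁻¹ c⁻¹)
    let φ : N → N := fun m => m * ⟨c * (m : G)⁻¹ * c⁻¹, hN.conj_mem _ (N.inv_mem m.2) c⟩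
    have hφ : Function.Injective φ := by
      intro m m' h
      have h1 : (m : G) * (c * (m : G)⁻¹ * c⁻¹) = m' * (c * (m' : G)⁻¹ * c⁻¹) := congrArg Subtype.val h
      by_contra hne
      have h2 : (m' : G)⁻¹ * m ≠ 1 := by
        intro h2
        exact hne (Subtype.ext (inv_mul_eq_one.1 h2).symm)
      have hx : (m' : G)⁻¹ * m ∈ N := N.mul_mem (N.inv_mem m'.2) m.2
      refine hfr c hc hc1 _ hx h2 ?_
      have hA : c * (m' : G)⁻¹ * c⁻¹ ∈ N := hN.conj_mem _ (N.inv_mem m'.2) c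
      have hB : c * (m : G) * c⁻¹ ∈ N := hN.conj_mem _ m.2 c
      calc c * ((m' : G)⁻¹ * m) * c⁻¹ = (c * (m' : G)⁻¹ * c⁻¹) * (c * m * c⁻¹) := by group
        _ = (m' : G)⁻¹ * (m' * (c * (m' : G)⁻¹ * c⁻¹)) * (c * m * c⁻¹) := by group
        _ = (m' : G)⁻¹ * (m * (c * (m : G)⁻¹ * c⁻¹)) * (c * m * c⁻¹) := by rw [h1]
        _ = (m' : G)⁻¹ * m := by group
    obtain ⟨m, hm⟩ := (Finite.injective_iff_surjective.1 hφ) ⟨n, hn⟩
    have hm' : (m : G) * (c * (m : G)⁻¹ * c⁻¹) = n := congrArg Subtype.val hm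
    refine ⟨c, hc, isConj_iff.2 ⟨m, ?_⟩⟩
    rw [← hnc', ← hm']
    group
  -- the count
  set h := coprime_of_modEq hG hkk with hh
  set Y : Set G := {x | x ∈ N ∧ x ≠ 1 ∧ x ^ p = 1} with hY
  have hYc : Y.ncard ≤ p - 1 := by
    have h1 : (Finset.univ.filter (fun a : N => a ^ p = 1)).card ≤ p := IsCyclic.card_pow_eq_one_le hp.pos
    have h2 : ((Finset.univ.filter (fun a : N => a ^ p = 1)).erase 1).card ≤ p - 1 := by
      rw [Finset.card_erase_of_mem (by simp)]
      omega
    refine le_trans ?_ h2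
    have h3 : Y = (fun a : N => (a : G)) '' (((Finset.univ.filter (fun a : N => a ^ p = 1)).erase 1 : Finset N) : Set N) := by
      ext x
      simp only [hY, Set.mem_setOf_eq, Set.mem_image, Finset.coe_erase, Finset.coe_filter, Finset.mem_univ, true_and,
        Set.mem_diff, Set.mem_singleton_iff]
      constructor
      · rintro ⟨hx, hx1, hxp⟩
        exact ⟨⟨x, hx⟩, ⟨Subtype.ext hxp, fun h => hx1 (congrArg Subtype.val h)⟩, rfl⟩
      · rintro ⟨a, ⟨ha, ha1⟩, rfl⟩
        exact ⟨a.2, fun h => ha1 (Subtype.ext h), congrArg Subtype.val ha⟩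
    rw [h3]
    refine (Set.ncard_image_le (Set.toFinite _)).trans ?_
    rw [Set.ncard_coe_finset]
  have hS2 : (ConjClasses.mk '' Y).ncard ≤ s := by
    have hrep : ∀ y : (ConjClasses.mk '' Y : Set (ConjClasses G)), ∃ x : G, x ∈ Y ∧ ConjClasses.mk x = y.1 := fun y => y.2
    choose r hr hr' using hrep
    let f : C × (ConjClasses.mk '' Y : Set (ConjClasses G)) → Y := fun z =>
      ⟨(z.1 : G) * r z.2 * (z.1 : G)⁻¹, hN.conj_mem _ (hr z.2).1 _, by
        intro h1
        exact (hr z.2).2.1 (by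
          have : r z.2 = (z.1 : G)⁻¹ * ((z.1 : G) * r z.2 * (z.1 : G)⁻¹) * z.1 := by group
          rw [this, h1]; group), by
        rw [conj_pow, (hr z.2).2.2]; group⟩
    have hf : Function.Injective f := by
      rintro ⟨c, y⟩ ⟨c', y'⟩ h1
      have h2 : (c : G) * r y * (c : G)⁻¹ = c' * r y' * (c' : G)⁻¹ := congrArg Subtype.val h1
      have h3 : y = y' := by
        apply Subtype.ext
        rw [← hr' y, ← hr' y']
        refine ConjClasses.mk_eq_mk_iff_isConj.2 (isConj_iff.2 ⟨(c' : G)⁻¹ * c, ?_⟩)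
        calc (c' : G)⁻¹ * c * r y * ((c' : G)⁻¹ * c)⁻¹ = (c' : G)⁻¹ * (c * r y * (c : G)⁻¹) * c' := by group
          _ = _ := by rw [h2]; group
      subst h3
      have h4 : (c' : G)⁻¹ * c = 1 := by
        by_contra hne
        refine hfr _ (C.mul_mem (C.inv_mem c'.2) c.2) hne _ (hr y).1 (hr y).2.1 ?_
        calc (c' : G)⁻¹ * c * r y * ((c' : G)⁻¹ * c)⁻¹ = (c' : G)⁻¹ * (c * r y * (c : G)⁻¹) * c' := by group
          _ = _ := by rw [h2]; group
      have h5 : c = c' := Subtype.ext (inv_mul_eq_one.1 h4).symm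
      rw [h5]
    have h1 := Nat.card_le_card_of_injective f hf
    rw [Nat.card_prod, hCs, Nat.card_coe_set_eq, Nat.card_coe_set_eq] at h1
    have h2 : s * (ConjClasses.mk '' Y).ncard ≤ s * s := by
      refine h1.trans (hYc.trans ?_)
      rw [← hs, pow_two]
    exact Nat.le_of_mul_le_mul_left h2 hs0
  have hS1 : (Set.range (fun c : C => ConjClasses.mk (c : G))).ncard ≤ s := by
    rw [← Set.image_univ]
    refine (Set.ncard_image_le (Set.toFinite _)).trans ?_
    rw [Set.ncard_univ, hCs]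
  have hT : {c : ConjClasses G | powCls h c = c} ⊆
      Set.range (fun c : C => ConjClasses.mk (c : G)) ∪ ConjClasses.mk '' Y := by
    intro c hc
    obtain ⟨g, rfl⟩ := ConjClasses.exists_rep c
    have hc1 : ConjClasses.mk (g ^ k) = ConjClasses.mk g := hc
    by_cases hg : g ∈ N
    · by_cases hg1 : g = 1
      · left
        exact ⟨1, by rw [hg1]; rfl⟩
      · right
        exact ⟨g, ⟨hg, hg1, hNel g hg (ConjClasses.mk_eq_mk_iff_isConj.1 hc1).symm⟩, rfl⟩
    · left
      obtain ⟨c, hc, hcg⟩ := hout g hg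
      exact ⟨⟨c, hc⟩, ConjClasses.mk_eq_mk_iff_isConj.2 hcg⟩
  have := Fintype.ofFinite (ConjClasses G)
  calc Nat.card {c : ConjClasses G // powCls h c = c} = {c : ConjClasses G | powCls h c = c}.ncard := rfl
    _ ≤ (Set.range (fun c : C => ConjClasses.mk (c : G)) ∪ ConjClasses.mk '' Y).ncard :=
        Set.ncard_le_ncard hT (Set.toFinite _)
    _ ≤ (Set.range (fun c : C => ConjClasses.mk (c : G))).ncard + (ConjClasses.mk '' Y).ncard := Set.ncard_union_le _ _
    _ ≤ s + s := Nat.add_le_add hS1 hS2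
    _ = 2 * s := by ring

end main

end Cfsg.Agent.H705.S4790
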