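import Mathlib
import Cfsg.Prelude.Def_Characters
import Cfsg.Agent.H697.Alm.Defs
import Cfsg.Agent.H352.S4790.Kap
import Cfsg.Agent.H705.S4790.Step
import Cfsg.Agent.Characters.Core

/-!
# S4790, T20: `ext_step`
-/

set_option autoImplicit false
open Cfsg Cfsg.Agent.H697.Alm

namespace Cfsg.Agent.H705.S4790

open Cfsg.Agent.Characters

universe u

variable {G : Type u} [Group G] [Finite G]

/-- inflation -/
theorem apr_quot {p : ℕ} (N : Subgroup G) [N.Normal] : apr p (G ⧸ N) ≤ apr p G := by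
  have := Core.finite_irr (G := G)
  refine Nat.card_le_card_of_injective
    (fun χ : {χ : IrrCharacter (G ⧸ N) // AlmRat p (χ : G ⧸ N → ℂ)} =>
      (⟨⟨(χ.1 : G ⧸ N → ℂ) ∘ QuotientGroup.mk' N,
          Core.isIrr_comp (QuotientGroup.mk' N) (QuotientGroup.mk'_surjective N) χ.1.2⟩, by
            obtain ⟨n, h1, h2, h3⟩ := χ.2
            exact ⟨n, h1, h2, fun g => h3 _⟩⟩ :
        {χ : IrrCharacter G // AlmRat p (χ : G → ℂ)})) ?_
  intro χ ψ h
  have h1 : (χ.1 : G ⧸ N → ℂ) ∘ QuotientGroup.mk' N = (ψ.1 : G ⧸ N → ℂ) ∘ QuotientGroup.mk' N :=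
    congrArg (fun x : {χ : IrrCharacter G // AlmRat p (χ : G → ℂ)} => (x.1 : G → ℂ)) h
  refine Subtype.ext (Subtype.ext (funext fun x => ?_))
  obtain ⟨g, rfl⟩ := QuotientGroup.mk'_surjective N x
  exact congrFun h1 g

/-- the step from `G ⧸ N` to `G` for a normal `p`-subgroup -/
theorem ext_step {p : ℕ} [Fact p.Prime] (h5 : 5 ≤ p) (N : Subgroup G) [N.Normal] (hN : IsPGroup p N)
    (hext : Ext p (G ⧸ N)) (hd : p ∣ Nat.card (G ⧸ N)) (hk : apr p G ^ 2 = 4 * (p - 1)) : Ext p G :=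
  ext_step_of h5 (fun K _ => (H352.S4790.kap_le_apr (Fact.out) (by omega)).trans (apr_quot K)) N hN hext hd hk

end Cfsg.Agent.H705.S4790
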